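import Groth.Agent.Lib.EtRad.Stalk
import Groth.Agent.Lib.EtSite.ClosedComplement
import Groth.Agent.Lib.EtJ.Supp
import Groth.Agent.Lib.EtJ.ExtAdj
import Groth.Agent.Lib.EtJ.PullExact
import Groth.Prelude.Def_EtCore
import Mathlib.AlgebraicGeometry.Morphisms.UniversallyClosed
import Mathlib.CategoryTheory.Adjunction.Reflective
import Mathlib.CategoryTheory.Preadditive.Injective.Preserves

/-!
# Direct image along integral radicial morphisms
-/

universe u

open CategoryTheory CategoryTheory.Limits AlgebraicGeometry Opposite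

namespace Groth.Agent.Lib.EtRad.Push

open Groth.Agent.Lib.EtSite Groth.Agent.Lib.EtSite.Basic

variable {X Y : Scheme.{u}} (f : X ⟶ Y) [IsIntegralHom f]

theorem isClosed_range : IsClosed (Set.range f.base) := by
  rw [← Set.image_univ]
  exact f.isClosedMap _ isClosed_univ

/-- The stalks of a direct image vanish away from the image. -/
theorem isZero_stalk_push (F : EtCoh.Ab X) {Ω : Type u} [Field Ω] [IsSepClosed Ω]
    (η : Spec (CommRingCat.of Ω) ⟶ Y) (hη : η.base default ∉ Set.range f.base) :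
    IsZero ((EtCoh.stalk η).obj ((EtCoh.push f).obj F)) := by
  rw [EtJ.Supp.stalk_isZero_iff]
  intro V p s
  let W : V.left.Opens := ⟨(V.hom.base ⁻¹' Set.range f.base)ᶜ,
    ((isClosed_range f).preimage V.hom.continuous).isOpen_compl⟩
  have hp : fiberPt p ∈ W := fun h => hη ((hom_fiberPt p) ▸ h)
  let V' : Y.Etale := MorphismProperty.Over.mk ⊤ (W.ι ≫ V.hom)
    (MorphismProperty.comp_mem EtCoh.etaleMP.{u} W.ι _ (show Etale W.ι from inferInstance) V.prop)
  let a : V' ⟶ V := MorphismProperty.Over.homMk W.ι rfl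
  obtain ⟨p', hp', -⟩ := Fiber.exists_fiber_map η a p ⟨fiberPt p, hp⟩ rfl
  have hd : Disjoint (Set.range V'.hom.base) (Set.range f.base) := by
    refine Set.disjoint_left.2 ?_
    rintro _ ⟨w, rfl⟩ h
    exact w.2 h
  have := ClosedComplement.isEmpty_bc f V' hd
  have hs : (((EtCoh.push f).obj F).obj.map a.op) s = 0 :=
    @Subsingleton.elim _ (ClosedComplement.unique_sections_of_isEmpty F ((EtCoh.bc f).obj V')).1 _ _
  rw [← hp']
  refine ((Scheme.pointSmallEtale η).toPresheafFiber_w_apply a p' ((EtCoh.push f).obj F).obj s).symm.trans ?_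
  exact (congrArg _ hs).trans (map_zero _)

variable [UniversallyInjective f]

theorem isIso_counit (F : EtCoh.Ab X) : IsIso ((EtCoh.pullPushAdj f).counit.app F) :=
  EtRad.Stalk.isIso_counit f (A := AddCommGrpCat.{u + 1}) F

theorem push_full_faithful : (EtCoh.push f).Full ∧ (EtCoh.push f).Faithful :=
  have : IsIso (EtCoh.pullPushAdj f).counit :=
    have := isIso_counit f
    NatIso.isIso_of_isIso_app _
  ⟨(EtCoh.pullPushAdj f).fullyFaithfulROfIsIsoCounit.full,
    (EtCoh.pullPushAdj f).fullyFaithfulROfIsIsoCounit.faithful⟩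

theorem isIso_unit (G : EtCoh.Ab Y) (hG : EtPBC.supp G ⊆ Set.range f.base) :
    IsIso ((EtCoh.pullPushAdj f).unit.app G) := by
  refine EtSite.Stalk.isIso_of_stalks _ fun y => ?_
  by_cases hy : y ∈ Set.range f.base
  · obtain ⟨z, rfl⟩ := hy
    let ξ := EtSite.Push.algPoint X z
    refine ⟨_, inferInstance, inferInstance, ξ ≫ f,
      congrArg f.base (EtSite.Push.algPoint_apply _ _ _), ?_⟩
    have h1 : IsIso (UnitStalk.unitStalk f ξ AddCommGrpCat.{u + 1} G) :=
      UnitStalk.isIso_unitStalk f ξ AddCommGrpCat.{u + 1} G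
    have h2 : IsIso ((PushStalk.germTo f AddCommGrpCat.{u + 1} (rfl : ξ ≫ f = ξ ≫ f)).app
        ((EtCoh.pull f).obj G)) :=
      (ConcreteCategory.isIso_iff_bijective _).2 (EtRad.Stalk.germTo_bijective f rfl _)
    have h3 : IsIso ((Scheme.pointSmallEtale (ξ ≫ f)).sheafFiber.map
        ((EtCoh.pullPushAdj f).unit.app G)) :=
      have : IsIso ((Scheme.pointSmallEtale (ξ ≫ f)).sheafFiber.map
        ((EtCoh.pullPushAdj f).unit.app G) ≫ _) := h1
      IsIso.of_isIso_comp_right _ ((PushStalk.germTo f AddCommGrpCat.{u + 1}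
        (rfl : ξ ≫ f = ξ ≫ f)).app _)
    exact (ConcreteCategory.isIso_iff_bijective _).1 h3
  · refine ⟨_, inferInstance, inferInstance, EtSite.Push.algPoint Y y,
      EtSite.Push.algPoint_apply _ _ _, ?_⟩
    let η := EtSite.Push.algPoint Y y
    have hη : η.base default = y := EtSite.Push.algPoint_apply _ _ _
    have h₂ := isZero_stalk_push f ((EtCoh.pull f).obj G) η
      (fun h => hy (hη ▸ h))
    have h₁ : IsZero ((EtCoh.stalk η).obj G) := by
      by_contra h
      exact hy (hG ⟨_, inferInstance, inferInstance, η,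
        (EtJ.Supp.range_eq η).trans (by rw [hη]), h⟩)
    have : IsIso ((Scheme.pointSmallEtale η).sheafFiber.map ((EtCoh.pullPushAdj f).unit.app G)) :=
      ⟨⟨h₂.to_ _, h₁.eq_of_src _ _, h₂.eq_of_src _ _⟩⟩
    exact (ConcreteCategory.isIso_iff_bijective _).1 this

theorem supp_subset (G : EtCoh.Ab Y) (hG : (EtCoh.push f).essImage G) :
    EtPBC.supp G ⊆ Set.range f.base := by
  obtain ⟨F, ⟨e⟩⟩ := hG
  rintro y ⟨Ω, _, _, η, hη, hne⟩
  by_contra hy
  have hd : η.base default = y := Set.eq_of_mem_singleton (hη ▸ Set.mem_range_self _)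
  exact hne (IsZero.of_iso (isZero_stalk_push f F η (hd ▸ hy)) ((EtCoh.stalk η).mapIso e.symm))

theorem essImage_iff (G : EtCoh.Ab Y) :
    (EtCoh.push f).essImage G ↔ EtPBC.supp G ⊆ Set.range f.base :=
  ⟨supp_subset f G, fun h =>
    have := isIso_unit f G h
    ⟨(EtCoh.pull f).obj G, ⟨(asIso ((EtCoh.pullPushAdj f).unit.app G)).symm⟩⟩⟩

variable [Surjective f]

theorem pull_isEquivalence : (EtCoh.pull f).IsEquivalence := by
  have : IsIso (EtCoh.pullPushAdj f).counit :=
    have := isIso_counit f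
    NatIso.isIso_of_isIso_app _
  have : IsIso (EtCoh.pullPushAdj f).unit := by
    have : ∀ G, IsIso ((EtCoh.pullPushAdj f).unit.app G) := fun G =>
      isIso_unit f G (by rw [f.surjective.range_eq]; exact Set.subset_univ _)
    exact NatIso.isIso_of_isIso_app _
  exact (EtCoh.pullPushAdj f).toEquivalence.isEquivalence_functor

theorem Hpull_bijective [PreservesFiniteLimits (EtCoh.pull f)] (G : EtCoh.Ab Y) (n : ℕ) :
    Function.Bijective (EtCore.Hpull f G n) := by
  have := pull_isEquivalence f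
  have : (EtCoh.pull f).PreservesInjectiveObjects :=
    Functor.preservesInjectiveObjects_of_adjunction_of_preservesMonomorphisms
      (EtCoh.pull f).asEquivalence.symm.toAdjunction
  refine EtJ.ExtAdj.extTr_bijective (EtCoh.pull f) (EtCore.pullConst f ℤ).inv (fun M => ?_) n G
  constructor
  · intro a b h
    exact (EtCoh.pull f).map_injective ((cancel_epi _).1 h)
  · intro b
    obtain ⟨a, ha⟩ := (EtCoh.pull f).map_surjective ((EtCore.pullConst f ℤ).hom ≫ b)
    exact ⟨a, by simp [ha]⟩

end Groth.Agent.Lib.EtRad.Push
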