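import Groth.Agent.Lib.Henselian.EtaleLift
import Groth.Prelude.Def_EtBase
import Mathlib.AlgebraicGeometry.Morphisms.ClosedImmersion
import Mathlib.AlgebraicGeometry.Morphisms.Etale

/-!
# Étale schemes over a closed subscheme lift Zariski locally
-/

universe u

open CategoryTheory CategoryTheory.Limits AlgebraicGeometry Opposite

namespace Groth.Agent.Lib.EtRad.EtaleLift

/-- A surjection with kernel generated by the kernel of a surjection gives a pushout. -/
theorem isPushout_of_surjective {A B L C : CommRingCat.{u}} (q : A ⟶ B) (l : A ⟶ L) (p : B ⟶ C)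
    (ψ : L ⟶ C) (w : l ≫ ψ = q ≫ p) (hq : Function.Surjective q.hom)
    (hψ : Function.Surjective ψ.hom)
    (hker : RingHom.ker ψ.hom ≤ (RingHom.ker q.hom).map l.hom) : IsPushout l q ψ p := by
  refine ⟨⟨w⟩, ⟨PushoutCocone.IsColimit.mk w ?_ ?_ ?_ ?_⟩⟩
  · exact fun s => CommRingCat.ofHom
      ((ψ.hom.liftOfSurjective hψ) ⟨s.inl.hom, fun x hx => by
        refine RingHom.mem_ker.2 ?_
        have hle : (RingHom.ker q.hom).map l.hom ≤ RingHom.ker s.inl.hom := by
          rw [Ideal.map_le_iff_le_comap]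
          intro a ha
          rw [Ideal.mem_comap, RingHom.mem_ker]
          have h := ConcreteCategory.congr_hom s.condition a
          refine h.trans ?_
          change s.inr.hom (q.hom a) = 0
          rw [RingHom.mem_ker.1 ha, map_zero]
        exact RingHom.mem_ker.1 (hle (hker hx))⟩)
  · intro s
    ext x
    exact RingHom.liftOfRightInverse_comp_apply _ _ (Function.rightInverse_surjInv hψ) _ x
  · intro s
    ext b
    obtain ⟨a, rfl⟩ := hq b
    have h₁ : p.hom (q.hom a) = ψ.hom (l.hom a) := (ConcreteCategory.congr_hom w a).symm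
    have h₂ := ConcreteCategory.congr_hom s.condition a
    simp only [CommRingCat.hom_comp, CommRingCat.hom_ofHom, RingHom.comp_apply]
    rw [h₁]
    refine (RingHom.liftOfRightInverse_comp_apply _ _ (Function.rightInverse_surjInv hψ) _ (l.hom a)).trans ?_
    exact h₂
  · intro s m h₁ _
    ext c
    obtain ⟨x, rfl⟩ := hψ c
    refine (ConcreteCategory.congr_hom h₁ x).trans ?_
    refine Eq.symm ?_
    exact RingHom.liftOfRightInverse_comp_apply _ _ (Function.rightInverse_surjInv hψ) _ x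

variable {X Y : Scheme.{u}} (f : X ⟶ Y) [IsClosedImmersion f]

/-- An étale scheme over a closed subscheme comes Zariski locally from the ambient scheme. -/
theorem exists_chart (U : X.Etale) (u : U.left) :
    ∃ (V : Y.Etale) (h : pullback V.hom f ⟶ U.left),
      h ≫ U.hom = pullback.snd V.hom f ∧ IsOpenImmersion h ∧ u ∈ Set.range h.base := by
  have : Etale U.hom := U.prop
  obtain ⟨W, hW, hxW, -⟩ := exists_isAffineOpen_mem_and_subset
    (TopologicalSpace.Opens.mem_top (f.base (U.hom.base u)))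
  have hB : IsAffineOpen (f ⁻¹ᵁ W) := hW.preimage f
  obtain ⟨T, hT, huT, hTW⟩ := exists_isAffineOpen_mem_and_subset (U := U.hom ⁻¹ᵁ (f ⁻¹ᵁ W)) hxW
  let q : Γ(Y, W) ⟶ Γ(X, f ⁻¹ᵁ W) := f.appLE W (f ⁻¹ᵁ W) le_rfl
  have hq : Function.Surjective q.hom := by
    have h := f.app_surjective W hW
    simpa [q, Scheme.Hom.app_eq_appLE] using h
  let p : Γ(X, f ⁻¹ᵁ W) ⟶ Γ(U.left, T) := U.hom.appLE (f ⁻¹ᵁ W) T hTW
  have hp : p.hom.Etale := HasRingHomProperty.appLE (P := @Etale.{u}) U.hom inferInstance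
    ⟨_, hB⟩ ⟨_, hT⟩ hTW
  let I := RingHom.ker q.hom
  let e : (Γ(Y, W) ⧸ I) ≃+* Γ(X, f ⁻¹ᵁ W) := RingHom.quotientKerEquivOfSurjective hq
  letI : Algebra (Γ(Y, W) ⧸ I) Γ(U.left, T) := (p.hom.comp e.toRingHom).toAlgebra
  letI : Algebra Γ(Y, W) Γ(U.left, T) := (p.hom.comp q.hom).toAlgebra
  have : IsScalarTower Γ(Y, W) (Γ(Y, W) ⧸ I) Γ(U.left, T) :=
    IsScalarTower.of_algebraMap_eq fun a => rfl
  have : Algebra.Etale (Γ(Y, W) ⧸ I) Γ(U.left, T) := by
    have h : (p.hom.comp e.toRingHom).Etale :=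
      RingHom.Etale.stableUnderComposition _ _ (RingHom.Etale.of_bijective e.bijective) hp
    exact h
  obtain ⟨L, _, _, hL, ψ, hψ, hker⟩ := Henselian.EtaleLift.exists_etale_lift I Γ(U.left, T)
  let l : Γ(Y, W) ⟶ CommRingCat.of L := CommRingCat.ofHom (algebraMap Γ(Y, W) L)
  let ψ' : CommRingCat.of L ⟶ Γ(U.left, T) := CommRingCat.ofHom ψ.toRingHom
  have w : l ≫ ψ' = q ≫ p := by
    ext a
    exact ψ.commutes a
  have hpush : IsPushout l q ψ' p := isPushout_of_surjective q l p ψ' w hq hψ hker.le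
  have : IsOpenImmersion hW.fromSpec := hW.isOpenImmersion_fromSpec
  have : IsOpenImmersion hB.fromSpec := hB.isOpenImmersion_fromSpec
  have hsq : IsPullback hB.fromSpec (Spec.map q) f hW.fromSpec := by
    refine (IsOpenImmersion.isPullback _ _ _ _ ?_ ?_).flip
    · exact (hW.SpecMap_appLE_fromSpec f hB le_rfl).symm
    · rw [hW.opensRange_fromSpec, hB.opensRange_fromSpec]
  let v : Spec (CommRingCat.of L) ⟶ Y := Spec.map l ≫ hW.fromSpec
  have : Etale (Spec.map l) :=
    (HasRingHomProperty.Spec_iff (P := @Etale.{u})).2 (RingHom.etale_algebraMap.2 hL)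
  have : Etale v := inferInstanceAs (Etale (_ ≫ _))
  have hbig : IsPullback (Spec.map ψ') (Spec.map p ≫ hB.fromSpec) v f :=
    (isPullback_SpecMap_of_isPushout _ _ _ _ hpush).paste_vert hsq.flip
  have hTfrom : Spec.map p ≫ hB.fromSpec = hT.fromSpec ≫ U.hom :=
    hB.SpecMap_appLE_fromSpec U.hom hT hTW
  let iT : Spec Γ(U.left, T) ⟶ U.left := hT.fromSpec
  let hh : pullback v f ⟶ U.left := hbig.isoPullback.inv ≫ iT
  have h₁ : hh ≫ U.hom = pullback.snd v f := by
    refine (Category.assoc _ _ _).trans ?_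
    refine Eq.trans (congrArg (hbig.isoPullback.inv ≫ ·) hTfrom.symm) ?_
    exact hbig.isoPullback_inv_snd
  have h₂ : IsOpenImmersion hh := by
    have : IsOpenImmersion iT := hT.isOpenImmersion_fromSpec
    exact inferInstanceAs (IsOpenImmersion (_ ≫ _))
  have h₃ : u ∈ Set.range hh.base := by
    have hu : u ∈ Set.range hT.fromSpec.base := by
      rw [hT.range_fromSpec]
      exact huT
    obtain ⟨z, hz⟩ := hu
    refine ⟨hbig.isoPullback.hom.base z, ?_⟩
    have : hbig.isoPullback.hom ≫ hh = iT := Iso.hom_inv_id_assoc _ _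
    exact (congrArg (fun m => m.base z) this).trans hz
  exact ⟨Scheme.Etale.mk v, hh, h₁, h₂, h₃⟩

end Groth.Agent.Lib.EtRad.EtaleLift
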