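import Groth.Agent.Lib.EtSite.PushStalk
import Groth.Agent.Lib.EtSite.Immersion
import Mathlib.AlgebraicGeometry.Morphisms.UniversallyInjective

/-!
# Direct images along integral radicial morphisms on stalks
-/

universe u

open CategoryTheory CategoryTheory.Limits AlgebraicGeometry Opposite

namespace Groth.Agent.Lib.EtRad.Stalk

open Groth.Agent.Lib.EtSite Groth.Agent.Lib.EtSite.Basic Groth.Agent.Lib.EtSite.Stalk
  Groth.Agent.Lib.EtSite.DisjointCover Groth.Agent.Lib.EtSite.PushStalk

theorem subsingleton_pullback {X Y : Scheme.{u}} (f : X ⟶ Y) [UniversallyInjective f]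
    {Ω : Type u} [Field Ω] (η : Spec (CommRingCat.of Ω) ⟶ Y) : Subsingleton ↥(pullback f η) := by
  have : UniversallyInjective (pullback.snd f η) :=
    (UniversallyInjective.isStableUnderBaseChange.{u}).of_isPullback
      (IsPullback.of_hasPullback f η) ‹_›
  exact (pullback.snd f η).injective.subsingleton

theorem discreteTopology_pullback {X Y U : Scheme.{u}} (f : X ⟶ Y) [UniversallyInjective f]
    {Ω : Type u} [Field Ω] (η : Spec (CommRingCat.of Ω) ⟶ Y) (g : U ⟶ X) [LocallyQuasiFinite g] :
    DiscreteTopology ↥(pullback (g ≫ f) η) := by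
  have := subsingleton_pullback f η
  have h := (pullback.snd g (pullback.fst f η)).isDiscrete_preimage
    (Set.subsingleton_of_subsingleton (s := Set.univ)).isDiscrete
  rw [Set.preimage_univ] at h
  have : DiscreteTopology ↥(pullback g (pullback.fst f η)) := by
    rwa [isDiscrete_univ_iff] at h
  exact (pullbackRightPullbackFstIso f η g).hom.homeomorph.discreteTopology

variable {X Y : Scheme.{u}} (f : X ⟶ Y) [IsIntegralHom f] [UniversallyInjective f]
  {Ω : Type u} [Field Ω] [IsAlgClosed Ω]

theorem pointsUnique {η : Spec (CommRingCat.of Ω) ⟶ Y} {ξ ξ' : Spec (CommRingCat.of Ω) ⟶ X}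
    (h : ξ ≫ f = η) (h' : ξ' ≫ f = η) : ξ = ξ' := by
  have := subsingleton_pullback f η
  let s : Spec (CommRingCat.of Ω) ⟶ pullback f η :=
    pullback.lift ξ (𝟙 _) (by rw [Category.id_comp, h])
  let s' : Spec (CommRingCat.of Ω) ⟶ pullback f η :=
    pullback.lift ξ' (𝟙 _) (by rw [Category.id_comp, h'])
  have h1 := FieldExt.eq_comp_section (h := pullback.snd f η) (s := s') (pullback.lift_snd _ _ _) s
    (Subsingleton.elim _ _)
  rw [pullback.lift_snd, Category.id_comp] at h1
  exact (pullback.lift_fst _ _ _).symm.trans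
    ((congrArg (· ≫ pullback.fst f η) h1).trans (pullback.lift_fst _ _ _))

theorem finite_points (η : Spec (CommRingCat.of Ω) ⟶ Y) :
    Finite {ξ : Spec (CommRingCat.of Ω) ⟶ X // ξ ≫ f = η} :=
  have : Subsingleton {ξ : Spec (CommRingCat.of Ω) ⟶ X // ξ ≫ f = η} :=
    ⟨fun a b => Subtype.ext (pointsUnique f a.2 b.2)⟩
  Finite.of_subsingleton

variable {A : Type (u + 2)} [Category.{u + 1} A] {FA : A → A → Type*}
  {CA : A → Type (u + 1)} [funLike : ∀ M N, FunLike (FA M N) (CA M) (CA N)] [concrete : ConcreteCategory.{u + 1} A FA]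
  [HasColimitsOfSize.{u, u} A] [preservesColim : PreservesFilteredColimitsOfSize.{u, u} (forget A)]
  [preservesLim : PreservesLimitsOfSize.{u + 1, u + 1} (forget A)]

/-- The stalks of a direct image along an integral radicial morphism. -/
theorem germTo_pi_bijective (η : Spec (CommRingCat.of Ω) ⟶ Y)
    (F : Sheaf X.smallEtaleTopology A) :
    Function.Bijective (fun z (ξ : {ξ : Spec (CommRingCat.of Ω) ⟶ X // ξ ≫ f = η}) =>
      (germTo f A ξ.2).app F z) := by
  classical
  constructor
  · intro z z' h
    obtain ⟨V₁, p₁, s₁, rfl⟩ := (Scheme.pointSmallEtale η).toPresheafFiber_jointly_surjective z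
    obtain ⟨V₂, p₂, s₂, rfl⟩ := (Scheme.pointSmallEtale η).toPresheafFiber_jointly_surjective z'
    let W := IsCofiltered.min ((Scheme.pointSmallEtale η).fiber.elementsMk V₁ p₁)
      ((Scheme.pointSmallEtale η).fiber.elementsMk V₂ p₂)
    let a : W ⟶ (Scheme.pointSmallEtale η).fiber.elementsMk V₁ p₁ := IsCofiltered.minToLeft _ _
    let b : W ⟶ (Scheme.pointSmallEtale η).fiber.elementsMk V₂ p₂ := IsCofiltered.minToRight _ _
    have ha : (Scheme.pointSmallEtale η).fiber.map a.1 W.2 = p₁ := a.2
    have hb : (Scheme.pointSmallEtale η).fiber.map b.1 W.2 = p₂ := b.2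
    rw [← ha, ← hb] at h ⊢
    erw [← GrothendieckTopology.Point.toPresheafFiber_w_apply,
      ← GrothendieckTopology.Point.toPresheafFiber_w_apply] at h ⊢
    refine toPresheafFiber_push_ext f F W.1 W.2 (exists_lift_of_isIntegralHom f W.1 W.2) _ _ fun ξ hξ => ?_
    have h' := congrFun h ⟨ξ, hξ⟩
    exact (germTo_toPresheafFiber f hξ F W.1 W.2 _).symm.trans
      (h'.trans (germTo_toPresheafFiber f hξ F W.1 W.2 _))
  · intro c
    choose U q u hu using fun ξ : {ξ : Spec (CommRingCat.of Ω) ⟶ X // ξ ≫ f = η} =>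
      (Scheme.pointSmallEtale ξ.1).toPresheafFiber_jointly_surjective (c ξ)
    let top := EtCoh.top Y
    let p : (Scheme.pointSmallEtale η).fiber.obj top := mkFiber η top η (Category.comp_id _)
    let g : ∀ ξ, U ξ ⟶ (EtCoh.bc f).obj top := fun ξ =>
      MorphismProperty.Over.homMk (pullback.lift ((U ξ).hom ≫ f) (U ξ).hom (Category.comp_id _))
        (pullback.lift_snd _ _ _)
    obtain ⟨V', a, p', hp', n, D, o, i, b, hD, hb, hW⟩ :=
      IntegralRefine.exists_refinement f top p U g (fun ξ => {fiberHom (q ξ)})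
      (fun ξ l hl => by
        have : Etale (g ξ).left := Fiber.etale_left (g ξ)
        have hq : LocallyQuasiFinite (g ξ).left := FieldExt.locallyQuasiFinite_of_etale _
        have hu : UniversallyInjective (pullback.fst top.hom f) :=
          (UniversallyInjective.isStableUnderBaseChange.{u}).of_isPullback
            (IsPullback.of_hasPullback top.hom f).flip ‹_›
        have : DiscreteTopology ↥(pullback ((g ξ).left ≫ pullback.fst top.hom f) (fiberHom p)) :=
          @discreteTopology_pullback _ _ _ (pullback.fst top.hom f) hu Ω _ (fiberHom p) (g ξ).left hq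
        refine ⟨{z | ∀ s : Spec (CommRingCat.of Ω) ⟶
            pullback ((g ξ).left ≫ pullback.fst top.hom f) (fiberHom p),
            s ≫ pullback.snd _ _ = 𝟙 _ → s.base default = z → s ≫ pullback.fst _ _ = fiberHom (q ξ)},
          isOpen_discrete _, fun s hs hsl s' hs' h => ?_, fun s hs hs' => hs' s hs rfl⟩
        have h1 := FieldExt.eq_comp_section hs s' h
        rw [hs', Category.id_comp] at h1
        rw [h1, hsl]
        exact hl)
      (fun x hx => by
        have hξ := snd_comp_eq f hx
        refine ⟨⟨_, hξ⟩, _, rfl, pullback.hom_ext ?_ ?_⟩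
        · refine (Category.assoc _ _ _).trans ((_ ≫= pullback.lift_fst _ _ _).trans ?_)
          refine (Category.assoc _ _ _).symm.trans ((congrArg (· ≫ f) (fiberHom_comp _)).trans ?_)
          exact hξ.trans hx.symm
        · exact (Category.assoc _ _ _).trans ((_ ≫= pullback.lift_snd _ _ _).trans (fiberHom_comp _)))
    obtain ⟨s, hs⟩ := hD.exists_glue F fun j => F.obj.map (b j).op (u (i j))
    refine ⟨(Scheme.pointSmallEtale η).toPresheafFiber V' p'
      (((EtCoh.bc f).sheafPushforwardContinuous A Y.smallEtaleTopology X.smallEtaleTopology).obj F).obj s,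
      funext fun ξ => ?_⟩
    refine (germTo_toPresheafFiber f ξ.2 F V' p' s).trans ?_
    obtain ⟨j, l, hl⟩ := hD.exists_fac (fiberHom (liftPt f ξ.2 V' p'))
    have hlD : l ≫ (D j).hom = ξ.1 := by
      refine (l ≫= (Over.w (o j).hom).symm).trans ((Category.assoc _ _ _).symm.trans ?_)
      exact (congrArg (· ≫ ((EtCoh.bc f).obj V').hom) hl).trans (fiberHom_comp _)
    have hmem : l ≫ (b j).left = fiberHom (q (i j)) := hW j l
      ((Category.assoc _ _ _).symm.trans ((congrArg (· ≫ pullback.fst V'.hom f) hl).trans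
        (pullback.lift_fst _ _ _)))
    have hξ : (i j).1 = ξ.1 := by
      refine Eq.trans ?_ hlD
      refine (fiberHom_comp (q (i j))).symm.trans ((congrArg (· ≫ (U (i j)).hom) hmem.symm).trans ?_)
      exact (Category.assoc _ _ _).trans (l ≫= (Over.w (b j).hom :))
    obtain rfl : i j = ξ := Subtype.ext hξ
    let lD : (Scheme.pointSmallEtale (i j).1).fiber.obj (D j) := mkFiber _ (D j) l hlD
    have h1 : (Scheme.pointSmallEtale (i j).1).fiber.map (o j) lD = liftPt f (i j).2 V' p' :=
      Over.OverMorphism.ext hl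
    have h2 : (Scheme.pointSmallEtale (i j).1).fiber.map (b j) lD = q (i j) :=
      Over.OverMorphism.ext hmem
    rw [← h1]
    refine ((Scheme.pointSmallEtale (i j).1).toPresheafFiber_w_apply (o j) lD F.obj s).symm.trans ?_
    rw [hs]
    refine ((Scheme.pointSmallEtale (i j).1).toPresheafFiber_w_apply (b j) lD F.obj _).trans ?_
    rw [h2]
    exact hu _

theorem germTo_bijective {η : Spec (CommRingCat.of Ω) ⟶ Y} {ζ : Spec (CommRingCat.of Ω) ⟶ X}
    (h : ζ ≫ f = η) (F : Sheaf X.smallEtaleTopology A) :
    Function.Bijective ((germTo f A h).app F) := by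
  obtain ⟨hi, hs⟩ := germTo_pi_bijective f η F
  refine ⟨fun z z' e => hi (funext fun ξ => ?_), fun c => ?_⟩
  · obtain ⟨ξ, hξ⟩ := ξ
    obtain rfl := pointsUnique f h hξ
    exact e
  · obtain ⟨z, hz⟩ := hs fun ξ => by
      obtain rfl := pointsUnique f h ξ.2
      exact c
    exact ⟨z, congrFun hz ⟨ζ, h⟩⟩

section

omit [IsAlgClosed Ω]

variable [HasProducts.{u} A] [reflectsIso : (forget A).ReflectsIsomorphisms]
  [((EtCoh.bc f).sheafPushforwardContinuous A Y.smallEtaleTopology
    X.smallEtaleTopology).IsRightAdjoint]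

include funLike concrete preservesColim preservesLim reflectsIso in
/-- The counit along an integral radicial morphism is an isomorphism. -/
theorem isIso_counit (G : Sheaf X.smallEtaleTopology A) :
    IsIso (((EtCoh.bc f).sheafAdjunctionContinuous A Y.smallEtaleTopology
      X.smallEtaleTopology).counit.app G) := by
  refine isIso_of_stalks (FA := FA) _ fun x => ?_
  set adj := (EtCoh.bc f).sheafAdjunctionContinuous A Y.smallEtaleTopology X.smallEtaleTopology
  let R := (EtCoh.bc f).sheafPushforwardContinuous A Y.smallEtaleTopology X.smallEtaleTopology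
  let ξ := Push.algPoint X x
  refine ⟨_, inferInstance, inferInstance, ξ, Push.algPoint_apply _ _ _, ?_⟩
  have hG : IsIso ((germTo f A (rfl : ξ ≫ f = ξ ≫ f)).app G) :=
    (ConcreteCategory.isIso_iff_bijective (C := A) (FC := FA) _).2 (germTo_bijective f rfl G)
  have := UnitStalk.isIso_unitStalk f ξ A (R.obj G)
  have e : UnitStalk.unitStalk f ξ A (R.obj G) ≫
      (Scheme.pointSmallEtale ξ).sheafFiber.map (adj.counit.app G) =
        (germTo f A (rfl : ξ ≫ f = ξ ≫ f)).app G := by
    have hn := (germTo f A (rfl : ξ ≫ f = ξ ≫ f)).naturality (adj.counit.app G)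
    refine (Category.assoc _ _ _).trans ((_ ≫= hn.symm).trans ?_)
    refine (Category.assoc _ _ _).symm.trans ?_
    rw [Functor.comp_map, ← Functor.map_comp]
    refine (congrArg (fun m => (Scheme.pointSmallEtale (ξ ≫ f)).sheafFiber.map m ≫
      (germTo f A (rfl : ξ ≫ f = ξ ≫ f)).app G) (adj.right_triangle_components G)).trans ?_
    rw [CategoryTheory.Functor.map_id]
    exact Category.id_comp _
  have : IsIso (UnitStalk.unitStalk f ξ A (R.obj G) ≫
      (Scheme.pointSmallEtale ξ).sheafFiber.map (adj.counit.app G)) := e ▸ hG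
  have : IsIso ((Scheme.pointSmallEtale ξ).sheafFiber.map (adj.counit.app G)) :=
    IsIso.of_isIso_comp_left (UnitStalk.unitStalk f ξ A (R.obj G)) _
  exact (ConcreteCategory.isIso_iff_bijective (C := A) (FC := FA) _).1 this

end

end Groth.Agent.Lib.EtRad.Stalk
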